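import Mathlib
import Groth.Agent.Lib.Dim.Ring

/-!
# Finitely many valuation subrings over a prime of a Dedekind domain
-/

set_option autoImplicit false
set_option linter.style.haveILetI false
universe u

namespace GrothLib.CurvePlaces1

variable {R K F : Type u} [CommRing R] [IsDedekindDomain R] [Field K] [Field F]
    [Algebra R K] [IsFractionRing R K] [Algebra K F] [FiniteDimensional K F]
    [Algebra R F] [IsScalarTower R K F]

include K in
theorem finite_valuationSubrings_over {t : R} (ht : t ≠ 0) :
    {V : ValuationSubring F | (algebraMap R F).range ≤ V.toSubring ∧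
      algebraMap R F t ∈ V.nonunits}.Finite := by
  classical
  let L := separableClosure K F
  let C := integralClosure R L
  haveI : IsDedekindDomain C := integralClosure.isDedekindDomain R K L
  haveI : IsFractionRing C L := integralClosure.isFractionRing_of_finite_extension K L
  let j : C →+* F := (algebraMap L F).comp (algebraMap C L)
  haveI : IsScalarTower R L F := IsScalarTower.of_algebraMap_eq fun r => by
    rw [IsScalarTower.algebraMap_apply R K F, IsScalarTower.algebraMap_apply R K L,
      ← IsScalarTower.algebraMap_apply K L F]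
  have hinjRC : Function.Injective (algebraMap R C) := by
    intro a b h
    have h1 := congrArg (algebraMap C L) h
    rw [← IsScalarTower.algebraMap_apply, ← IsScalarTower.algebraMap_apply,
      IsScalarTower.algebraMap_apply R K L, IsScalarTower.algebraMap_apply R K L] at h1
    exact IsFractionRing.injective R K ((algebraMap K L).injective h1)
  have hC : ∀ V : ValuationSubring F, (algebraMap R F).range ≤ V.toSubring → ∀ c : C, j c ∈ V := by
    intro V hV c
    obtain ⟨p, hp, hpc⟩ := c.2
    let ι : R →+* V := (algebraMap R F).codRestrict V.toSubring fun r => hV ⟨r, rfl⟩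
    have hint : IsIntegral V (j c) := by
      refine ⟨p.map ι, hp.map _, ?_⟩
      rw [Polynomial.eval₂_map]
      have := Polynomial.hom_eval₂ p (algebraMap R L) (algebraMap L F) (c : L)
      rw [hpc, map_zero] at this
      exact this.symm
    obtain ⟨v, hv⟩ := IsIntegrallyClosed.isIntegral_iff.1 hint
    rw [← hv]
    exact v.2
  let S := {V : ValuationSubring F | (algebraMap R F).range ≤ V.toSubring ∧ algebraMap R F t ∈ V.nonunits}
  -- centres
  let ctr : S → Ideal C := fun V =>
    (IsLocalRing.maximalIdeal V.1).comap (j.codRestrict V.1.toSubring (hC V.1 V.2.1))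
  have hct : ∀ (V : S) (c : C), c ∈ ctr V ↔ j c ∈ V.1.nonunits := fun V c => by
    show (⟨j c, hC V.1 V.2.1 c⟩ : V.1) ∈ IsLocalRing.maximalIdeal V.1 ↔ _
    refine Iff.trans ?_ ValuationSubring.mem_nonunits_iff_exists_mem_maximalIdeal.symm
    exact ⟨fun h => ⟨_, h⟩, fun ⟨_, h⟩ => h⟩
  have htC : ∀ V : S, algebraMap R C t ∈ ctr V := fun V => by
    rw [hct]
    show algebraMap L F (algebraMap C L (algebraMap R C t)) ∈ _
    rw [← IsScalarTower.algebraMap_apply R C L, ← IsScalarTower.algebraMap_apply R L F]
    exact V.2.2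
  have hfinI : (ctr '' Set.univ).Finite := by
    have hne : Ideal.span {algebraMap R C t} ≠ ⊥ := by
      rw [Ne, Ideal.span_singleton_eq_bot]
      exact fun h => ht (hinjRC (h.trans (map_zero _).symm))
    refine ((Ideal.finite_factors hne).image IsDedekindDomain.HeightOneSpectrum.asIdeal).subset ?_
    rintro _ ⟨V, -, rfl⟩
    haveI : (ctr V).IsPrime := inferInstanceAs ((Ideal.comap _ _).IsPrime)
    have h0 : ctr V ≠ ⊥ := fun h => ht (hinjRC (by
      have := htC V
      rw [h, Submodule.mem_bot] at this
      rw [this, map_zero]))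
    refine ⟨⟨ctr V, inferInstance, h0⟩, ?_, rfl⟩
    exact Ideal.dvd_iff_le.2 ((Ideal.span_singleton_le_iff_mem _).2 (htC V))
  have key : ∀ (V : S) (z : L), algebraMap L F z ∈ V.1 ↔
      ∃ a s : C, s ∉ ctr V ∧ z * algebraMap C L s = algebraMap C L a := by
    intro V z
    haveI : (ctr V).IsPrime := inferInstanceAs ((Ideal.comap _ _).IsPrime)
    have hmem : ∀ (a s : C), s ∉ ctr V → z * algebraMap C L s = algebraMap C L a → algebraMap L F z ∈ V.1 := by
      intro a s hs h
      have hu : IsUnit (⟨j s, hC V.1 V.2.1 s⟩ : V.1) := IsLocalRing.notMem_maximalIdeal.1 hs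
      obtain ⟨w, hw⟩ := isUnit_iff_exists_inv.1 hu
      have h1 : algebraMap L F z = j a * (w : F) := by
        have hw' : j s * (w : F) = 1 := congrArg Subtype.val hw
        show algebraMap L F z = algebraMap L F (algebraMap C L a) * _
        rw [← h, map_mul, mul_assoc, show algebraMap L F (algebraMap C L s) * (w : F) = 1 from hw', mul_one]
      rw [h1]
      exact V.1.mul_mem _ _ (hC V.1 V.2.1 a) w.2
    refine ⟨fun hz => ?_, fun ⟨a, s, hs, h⟩ => hmem a s hs h⟩
    by_cases hz0 : z = 0
    · exact ⟨0, 1, fun h => (inferInstance : (ctr V).IsPrime).one_notMem h, by rw [hz0, zero_mul, map_zero]⟩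
    obtain ⟨a₀, b₀, hb₀, rfl⟩ := IsFractionRing.div_surjective (A := C) z
    have hb0 : algebraMap C L b₀ ≠ 0 :=
      (map_ne_zero_iff _ (IsFractionRing.injective C L)).2 (nonZeroDivisors.ne_zero hb₀)
    let T := Localization.AtPrime (ctr V)
    have hP0 : ctr V ≠ ⊥ := fun h => ht (hinjRC (by
      have := htC V
      rw [h, Submodule.mem_bot] at this
      rw [this, map_zero]))
    haveI : IsDiscreteValuationRing T :=
      IsLocalization.AtPrime.isDiscreteValuationRing_of_dedekind_domain C hP0 T
    have hinjT : Function.Injective (algebraMap C T) := IsLocalization.injective T (ctr V).primeCompl_le_nonZeroDivisors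
    rcases ValuationRing.dvd_total (algebraMap C T b₀) (algebraMap C T a₀) with ⟨c, hc⟩ | ⟨c, hc⟩
    · obtain ⟨a, s, rfl⟩ := IsLocalization.exists_mk'_eq (ctr V).primeCompl c
      refine ⟨a, s, s.2, ?_⟩
      have h1 : a₀ * s = b₀ * a := hinjT (by
        rw [map_mul, map_mul, hc, mul_assoc, IsLocalization.mk'_spec])
      rw [div_mul_eq_mul_div, div_eq_iff hb0, ← map_mul, ← map_mul, h1, mul_comm]
    · obtain ⟨a, s, rfl⟩ := IsLocalization.exists_mk'_eq (ctr V).primeCompl c
      have h1 : b₀ * s = a₀ * a := hinjT (by
        rw [map_mul, map_mul, hc, mul_assoc, IsLocalization.mk'_spec])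
      by_cases ha : a ∈ ctr V
      · exfalso
        refine s.2 ?_
        rw [SetLike.mem_coe]
        rw [hct] at ha ⊢
        have h2 : j s = algebraMap L F (algebraMap C L a₀ / algebraMap C L b₀) * j a := by
          show algebraMap L F _ = _ * algebraMap L F _
          rw [← map_mul, div_mul_eq_mul_div, ← map_mul, ← h1, map_mul, mul_div_cancel_left₀ _ hb0]
        rw [h2]
        rw [ValuationSubring.mem_nonunits_iff_exists_mem_maximalIdeal] at ha ⊢
        obtain ⟨_, ha⟩ := ha
        exact ⟨_, Ideal.mul_mem_left _ (⟨_, hz⟩ : V.1) ha⟩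
      · refine ⟨s, a, ha, ?_⟩
        rw [div_mul_eq_mul_div, div_eq_iff hb0, ← map_mul, ← map_mul, ← h1, mul_comm]
  have hinj : Function.Injective ctr := by
    intro V W h
    have hL : ∀ z : L, algebraMap L F z ∈ V.1 ↔ algebraMap L F z ∈ W.1 := fun z => by rw [key, key, h]
    have hpow : ∀ (U : ValuationSubring F) (z : F) (m : ℕ), 0 < m → (z ∈ U ↔ z ^ m ∈ U) := fun U z m hm => by
      rw [← U.valuation_le_one_iff, ← U.valuation_le_one_iff, map_pow, pow_le_one_iff_of_nonneg zero_le hm.ne']
    refine Subtype.ext (SetLike.ext fun z => ?_)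
    haveI : IsPurelyInseparable L F := separableClosure.isPurelyInseparable K F
    obtain ⟨n, w, hw⟩ := IsPurelyInseparable.pow_mem L (ringExpChar L) z
    have hq : 0 < ringExpChar L ^ n := pow_pos (expChar_pos L (ringExpChar L)) n
    rw [hpow V.1 z _ hq, hpow W.1 z _ hq, ← hw]
    exact hL w
  haveI := hfinI.to_subtype
  exact Set.finite_coe_iff.1 (Finite.of_injective (fun V => (⟨ctr V, V, trivial, rfl⟩ : ctr '' Set.univ))
    (fun V W h => hinj (congrArg Subtype.val h)))

theorem finite_valuationSubrings_not_containing (k A F : Type u) [Field k]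
    [CommRing A] [IsDomain A] [Algebra k A] [Algebra.FiniteType k A] (hA : ringKrullDim A = 1)
    [Field F] [Algebra A F] [IsFractionRing A F] [Algebra k F] [IsScalarTower k A F] :
    {O : ValuationSubring F | (algebraMap k F).range ≤ O.toSubring ∧
        ¬ (algebraMap A F).range ≤ O.toSubring}.Finite := by
  classical
  obtain ⟨s, g, hg, hgi⟩ := exists_integral_inj_algHom_of_fg k A
  have hs : s = 1 := by
    have h1 : ringKrullDim (MvPolynomial (Fin s) k) = ringKrullDim A :=
      letI := g.toRingHom.toAlgebra
      haveI : FaithfulSMul (MvPolynomial (Fin s) k) A := (faithfulSMul_iff_algebraMap_injective _ _).2 hg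
      haveI : Algebra.IsIntegral (MvPolynomial (Fin s) k) A := ⟨hgi⟩
      (GrothLib.Dim.ringKrullDim_eq_of_isIntegral (R := MvPolynomial (Fin s) k) (S := A) hg).symm
    rw [MvPolynomial.ringKrullDim_of_isNoetherianRing, ringKrullDim_eq_zero_of_field, hA, zero_add] at h1
    simpa using h1
  subst hs
  set x : F := algebraMap A F (g (MvPolynomial.X 0)) with hx
  let gF : MvPolynomial (Fin 1) k →ₐ[k] F := (IsScalarTower.toAlgHom k A F).comp g
  have hgF : Function.Injective gF := (IsFractionRing.injective A F).comp hg
  let e : Polynomial k ≃ₐ[k] MvPolynomial (Fin 1) k := (MvPolynomial.uniqueAlgEquiv k (Fin 1)).symm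
  have haev : ∀ p, Polynomial.aeval x p = gF (e p) := by
    intro p
    have : (Polynomial.aeval x : Polynomial k →ₐ[k] F) = gF.comp e.toAlgHom := by
      refine Polynomial.algHom_ext ?_
      simp [e, gF, x]
    exact DFunLike.congr_fun this p
  have hxtr : Transcendental k x := by
    rw [transcendental_iff]
    intro p hp
    rw [haev] at hp
    exact (map_eq_zero_iff e e.injective).1 ((map_eq_zero_iff gF hgF).1 hp)
  have hx0 : x ≠ 0 := fun h => hxtr (h ▸ isAlgebraic_zero)
  have hytr : Transcendental k x⁻¹ := fun h => hxtr (inv_inv x ▸ h.inv)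
  let R := Polynomial k
  let K := FractionRing R
  let φ : R →ₐ[k] F := Polynomial.aeval x⁻¹
  have hφ : Function.Injective φ := transcendental_iff_injective.1 hytr
  letI : Algebra R F := φ.toRingHom.toAlgebra
  haveI : FaithfulSMul R F := (faithfulSMul_iff_algebraMap_injective _ _).2 hφ
  letI : Algebra K F := FractionRing.liftAlgebra R F
  haveI : IsScalarTower R K F := FractionRing.isScalarTower_liftAlgebra R F
  have hkF : ∀ c : k, algebraMap K F (algebraMap k K c) = algebraMap k F c := fun c => by
    rw [IsScalarTower.algebraMap_apply k R K, ← IsScalarTower.algebraMap_apply R K F]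
    exact φ.commutes c
  let ψ : R →+* K := Polynomial.eval₂RingHom (algebraMap k K) (algebraMap R K Polynomial.X)⁻¹
  have hψ : (algebraMap K F).comp ψ = (Polynomial.aeval x : Polynomial k →ₐ[k] F).toRingHom := by
    refine Polynomial.ringHom_ext (fun c => ?_) ?_
    · simp [ψ, hkF]
    · simp only [ψ, RingHom.comp_apply, Polynomial.coe_eval₂RingHom, Polynomial.eval₂_X, map_inv₀]
      rw [← IsScalarTower.algebraMap_apply R K F,
        show algebraMap R F Polynomial.X = x⁻¹ from Polynomial.aeval_X _]
      simp
  have hint : ∀ a : A, IsIntegral K (algebraMap A F a) := fun a => by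
    obtain ⟨p, hp, hpa⟩ := hgi a
    refine ⟨p.map (ψ.comp e.symm.toRingEquiv.toRingHom), hp.map _, ?_⟩
    rw [Polynomial.eval₂_map, ← RingHom.comp_assoc, hψ,
      show ((Polynomial.aeval x : Polynomial k →ₐ[k] F).toRingHom.comp e.symm.toRingEquiv.toRingHom) =
        (algebraMap A F).comp g.toRingHom from RingHom.ext fun m => by
        show Polynomial.aeval x (e.symm m) = _
        rw [haev, e.apply_symm_apply]
        rfl]
    rw [← Polynomial.hom_eval₂, hpa, map_zero]
  obtain ⟨gens, hgens⟩ := (inferInstance : Algebra.FiniteType k A).out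
  haveI : FiniteDimensional K (IntermediateField.adjoin K ((algebraMap A F) '' (gens : Set A))) := by
    haveI : Finite ((algebraMap A F) '' (gens : Set A)) := (gens.finite_toSet.image _).to_subtype
    exact IntermediateField.finiteDimensional_adjoin fun z ⟨a, _, ha⟩ => ha ▸ hint a
  have htop : IntermediateField.adjoin K ((algebraMap A F) '' (gens : Set A)) = ⊤ := by
    rw [eq_top_iff]
    rintro z -
    have hA' : ∀ a : A, algebraMap A F a ∈ IntermediateField.adjoin K ((algebraMap A F) '' (gens : Set A)) := fun a => by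
      have ha : a ∈ Algebra.adjoin k (gens : Set A) := hgens ▸ trivial
      induction ha using Algebra.adjoin_induction with
      | mem a ha => exact IntermediateField.subset_adjoin K _ ⟨a, ha, rfl⟩
      | algebraMap c =>
        rw [← IsScalarTower.algebraMap_apply k A F, ← hkF]
        exact IntermediateField.algebraMap_mem _ _
      | add a b _ _ ha hb => rw [map_add]; exact add_mem ha hb
      | mul a b _ _ ha hb => rw [map_mul]; exact mul_mem ha hb
    obtain ⟨a, b, -, rfl⟩ := IsFractionRing.div_surjective (A := A) z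
    exact div_mem (hA' a) (hA' b)
  haveI : FiniteDimensional K F := by
    have h2 : FiniteDimensional K (⊤ : IntermediateField K F) := htop ▸ inferInstance
    exact LinearEquiv.finiteDimensional IntermediateField.topEquiv.toLinearEquiv
  refine (finite_valuationSubrings_over (R := R) (K := K) (F := F) Polynomial.X_ne_zero).subset ?_
  rintro O ⟨hk, hAO⟩
  have hxO : x ∉ O := by
    intro hxO
    refine hAO ?_
    rintro _ ⟨a, rfl⟩
    obtain ⟨p, hp, hpa⟩ := hgi a
    have hmem : ∀ m : MvPolynomial (Fin 1) k, gF m ∈ O := fun m => by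
      induction m using MvPolynomial.induction_on with
      | C c => rw [MvPolynomial.algHom_C]; exact hk ⟨c, rfl⟩
      | add p q hp hq => rw [map_add]; exact O.add_mem _ _ hp hq
      | mul_X p i hp =>
        rw [map_mul, show i = 0 from Subsingleton.elim _ _]
        exact O.mul_mem _ _ hp hxO
    let ι : MvPolynomial (Fin 1) k →+* O := gF.toRingHom.codRestrict O.toSubring hmem
    have hint' : IsIntegral O (algebraMap A F a) := by
      refine ⟨p.map ι, hp.map _, ?_⟩
      rw [Polynomial.eval₂_map, show (algebraMap O F).comp ι = (algebraMap A F).comp g.toRingHom from rfl,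
        ← Polynomial.hom_eval₂, hpa, map_zero]
    obtain ⟨v, hv⟩ := IsIntegrallyClosed.isIntegral_iff.1 hint'
    rw [← hv]
    exact v.2
  have hy : x⁻¹ ∈ O.nonunits := by
    rw [ValuationSubring.mem_nonunits_iff, map_inv₀]
    exact inv_lt_one_of_one_lt₀ (lt_of_not_ge fun h => hxO ((O.valuation_le_one_iff _).1 h))
  refine ⟨?_, ?_⟩
  · rintro _ ⟨p, rfl⟩
    show Polynomial.aeval x⁻¹ p ∈ O
    induction p using Polynomial.induction_on' with
    | add p q hp hq => rw [map_add]; exact O.add_mem _ _ hp hq
    | monomial n c =>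
      rw [Polynomial.aeval_monomial]
      exact O.mul_mem _ _ (hk ⟨c, rfl⟩) (pow_mem ((O.nonunits_subset) hy) n)
  · show Polynomial.aeval x⁻¹ Polynomial.X ∈ O.nonunits
    rw [Polynomial.aeval_X]
    exact hy

end GrothLib.CurvePlaces1
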